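import Groth.Agent.ZClosLib.Bound
import Groth.Agent.ZClosLib.CohLocus
import Groth.Agent.QCoh.SpecFT

/-!
# A criterion for coherence of the closure along `Z`
-/

set_option autoImplicit false
set_option linter.style.haveILetI false
set_option backward.isDefEq.respectTransparency false
set_option backward.isDefEq.respectTransparency.types false

universe u

open CategoryTheory CategoryTheory.Limits AlgebraicGeometry TopologicalSpace Opposite

namespace Groth.Agent.ZClosLib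

/-- The height-one hull as a subalgebra. -/
noncomputable def hullAlg (B : Type u) [CommRing B] [IsDomain B] : Subalgebra B (FractionRing B) where
  carrier := EGA4.heightOneHull B
  algebraMap_mem' b p _ _ := ⟨1, fun h => (Ideal.IsPrime.ne_top inferInstance) ((Ideal.eq_top_iff_one p).2 h), b, by simp⟩
  zero_mem' p _ _ := ⟨1, fun h => (Ideal.IsPrime.ne_top inferInstance) ((Ideal.eq_top_iff_one p).2 h), 0, by simp⟩
  one_mem' p _ _ := ⟨1, fun h => (Ideal.IsPrime.ne_top inferInstance) ((Ideal.eq_top_iff_one p).2 h), 1, by simp⟩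
  add_mem' := fun {x y} hx hy p _ hp => by
    obtain ⟨s, hs, a, ha⟩ := hx p hp
    obtain ⟨t, ht, b, hb⟩ := hy p hp
    refine ⟨s * t, fun h => (Ideal.IsPrime.mem_or_mem inferInstance h).elim hs ht, t * a + s * b, ?_⟩
    rw [map_add, map_mul, map_mul, ha, hb, map_mul]
    ring
  mul_mem' := fun {x y} hx hy p _ hp => by
    obtain ⟨s, hs, a, ha⟩ := hx p hp
    obtain ⟨t, ht, b, hb⟩ := hy p hp
    refine ⟨s * t, fun h => (Ideal.IsPrime.mem_or_mem inferInstance h).elim hs ht, a * b, ?_⟩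
    rw [map_mul, ha, hb, map_mul]
    ring

/-- The base case of the criterion, from finiteness of the height-one hull. -/
theorem clo_quotient_fg {R : Type u} [CommRing R] [IsNoetherianRing R] (W : Set (PrimeSpectrum R))
    (p : Ideal R) [p.IsPrime]
    (hht : ∀ y ∈ W, p ≤ y.asIdeal → (2 : ℕ∞) ≤ (y.asIdeal.map (Ideal.Quotient.mk p)).height)
    (hfin : Module.Finite (R ⧸ p) (hullAlg (R ⧸ p)))
    (L : Type u) [AddCommGroup L] [Module R L] (f : (R ⧸ p) →ₗ[R] L) [IsLocalizedModule p.primeCompl f] :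
    (Bound.Clo W f).FG := by
  haveI := hfin
  let K := FractionRing (R ⧸ p)
  let ι : (R ⧸ p) →ₗ[R] K := (Algebra.linearMap (R ⧸ p) K).restrictScalars R
  have hinj : Function.Injective ι := IsFractionRing.injective (R ⧸ p) K
  have hu : ∀ s : p.primeCompl, IsUnit ((algebraMap R (Module.End R K)) s) := fun s => by
    rw [Module.End.isUnit_iff]
    have h0 : algebraMap R K s ≠ 0 := by
      rw [IsScalarTower.algebraMap_apply R (R ⧸ p) K]
      exact fun h => s.2 (Ideal.Quotient.eq_zero_iff_mem.1 (hinj (h.trans (map_zero ι).symm)))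
    refine ⟨fun a b h => ?_, fun b => ⟨(algebraMap R K s)⁻¹ * b, ?_⟩⟩
    · simp only [Module.algebraMap_end_apply, Algebra.smul_def] at h
      exact mul_left_cancel₀ h0 h
    · simp only [Module.algebraMap_end_apply, Algebra.smul_def, mul_inv_cancel_left₀ h0]
  let g : L →ₗ[R] K := IsLocalizedModule.lift p.primeCompl f ι hu
  have hg : ∀ n, g (f n) = ι n := IsLocalizedModule.lift_apply p.primeCompl f ι hu
  have hginj : Function.Injective g := by
    rw [← LinearMap.ker_eq_bot, LinearMap.ker_eq_bot']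
    intro v hv
    obtain ⟨⟨n, s⟩, rfl⟩ := IsLocalizedModule.mk'_surjective p.primeCompl f v
    simp only [Function.uncurry_apply_pair] at hv ⊢
    have h : g (f n) = 0 := by
      rw [← IsLocalizedModule.mk'_cancel' f n s]
      show g ((s : R) • IsLocalizedModule.mk' f n s) = 0
      rw [map_smul, hv, smul_zero]
    rw [hg] at h
    rw [show n = 0 from hinj (h.trans (map_zero ι).symm), IsLocalizedModule.mk'_zero]
  haveI : Module.Finite R (hullAlg (R ⧸ p)) := Module.Finite.trans (R := R) (R ⧸ p) _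
  let B : Submodule R K := (Subalgebra.toSubmodule (hullAlg (R ⧸ p))).restrictScalars R
  have hB : B.FG := by
    have : B = LinearMap.range ((hullAlg (R ⧸ p)).val.toLinearMap.restrictScalars R) :=
      Submodule.ext fun x => ⟨fun h => ⟨⟨x, h⟩, rfl⟩, by rintro ⟨y, rfl⟩; exact y.2⟩
    rw [this, LinearMap.range_eq_map]
    exact Module.Finite.fg_top.map _
  refine Submodule.fg_of_fg_map_injective g hginj (Bound.fg_of_le hB ?_)
  rintro _ ⟨v, hv, rfl⟩ P _ hP
  let y : PrimeSpectrum R := ⟨P.comap (Ideal.Quotient.mk p), inferInstance⟩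
  have hy : y ∉ W := fun h => by
    have h2 := hht y h (fun r hr => Ideal.mem_comap.2 (by
      rw [Ideal.Quotient.eq_zero_iff_mem.2 hr]; exact P.zero_mem))
    rw [Ideal.map_comap_of_surjective _ Ideal.Quotient.mk_surjective, hP] at h2
    exact absurd h2 (by norm_num)
  obtain ⟨r, hr, n, hn⟩ := hv y hy
  refine ⟨Ideal.Quotient.mk p r, hr, n, ?_⟩
  have h := congrArg g hn
  rw [hg, map_smul, Algebra.smul_def, IsScalarTower.algebraMap_apply R (R ⧸ p) K] at h
  exact h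

variable {X : Scheme.{u}} [IsLocallyNoetherian X] {Z : Set X} {F : X.Modules}

theorem H0_surj (hF : Coh.IsQCoh F) {V : X.Opens} (hV : IsAffineOpen V) (g : Γ((ZClos.H0 Z).obj F, V))
    {z : X} (hz : z ∈ V) (hzZ : z ∉ Z) :
    ∃ (r : Γ(X, V)) (m : Γ(F, V)), z ∈ X.basicOpen r ∧ (ZClos.rhoApp Z F).app V m = r • g := by
  have hb : Function.Bijective (stalkMap (ZClos.rhoApp Z F) z) := isZClosedAt_of_not_mem F hzZ
  obtain ⟨w, hw⟩ := hb.2 (((ZClos.H0 Z).obj F).presheaf.germ V _ hz g)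
  letI := QCoh.stalkModule F hz
  haveI := QCoh.isLocalizedModule_germLin hF hV hz
  obtain ⟨⟨m, t⟩, hmt⟩ := IsLocalizedModule.surj (hV.primeIdealOf ⟨_, hz⟩).asIdeal.primeCompl (QCoh.germLin F hz) w
  have h1 : ((ZClos.H0 Z).obj F).presheaf.germ V _ hz ((t : Γ(X, V)) • g - (ZClos.rhoApp Z F).app V m) = 0 := by
    rw [map_sub, sub_eq_zero, QCoh.germ_smul', ← hw]
    have hm : X.presheaf.germ V _ hz t.1 • w = F.presheaf.germ V _ hz m := hmt
    rw [← stalkMap_germ (ZClos.rhoApp Z F) hz m, ← hm]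
    exact (((DerSch.stalkFunctor X _).map (ZClos.rhoApp Z F)).hom.map_smul _ w).symm
  obtain ⟨u, hu, hu0⟩ := (QCoh.germ_eq_zero_iff (isQCoh_H0 hF) hV hz _).1 h1
  refine ⟨u * t, u • m, ?_, ?_⟩
  · rw [Scheme.basicOpen_mul]
    exact ⟨hu, (QCoh.mem_basicOpen_iff_notMem hV hz _).2 t.2⟩
  · rw [smul_sub, sub_eq_zero] at hu0
    rw [Scheme.Modules.Hom.app_smul, mul_smul, hu0]

theorem H0_inj (hF : Coh.IsQCoh F) {V : X.Opens} (hV : IsAffineOpen V) (m : Γ(F, V))
    (hm : (ZClos.rhoApp Z F).app V m = 0) {z : X} (hz : z ∈ V) (hzZ : z ∉ Z) :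
    ∃ r : Γ(X, V), z ∈ X.basicOpen r ∧ r • m = 0 := by
  have hb : Function.Bijective (stalkMap (ZClos.rhoApp Z F) z) := isZClosedAt_of_not_mem F hzZ
  refine (QCoh.germ_eq_zero_iff hF hV hz m).1 (hb.1 ?_)
  rw [stalkMap_germ, hm, map_zero, map_zero]

theorem H0_sep (hF : Coh.IsQCoh F) (hZ : StableUnderSpecialization Z) {V : X.Opens} (hV : IsAffineOpen V)
    (g : Γ((ZClos.H0 Z).obj F, V))
    (hg : ∀ z, z ∈ V → z ∉ Z → ∃ r : Γ(X, V), z ∈ X.basicOpen r ∧ r • g = 0) : g = 0 := by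
  let G := (ZClos.H0 Z).obj F
  have hG : Coh.IsQCoh G := isQCoh_H0 hF
  have hz0 : ∀ z (hz : z ∈ V), z ∉ Z → G.presheaf.germ V z hz g = 0 := fun z hz hzZ =>
    (QCoh.germ_eq_zero_iff hG hV hz g).2 (hg z hz hzZ)
  let O : X.Opens := sSup {O : X.Opens | ∃ h : O ≤ V, res G h g = 0}
  have hO : (V : Set X) \ O ⊆ Z := fun z hz => by
    by_contra hzZ
    obtain ⟨W', hle, h₂, hzW, hW'⟩ := exists_res_eq_of_germ_eq G hz.1 hz.1 g 0 (by rw [hz0 z hz.1 hzZ, map_zero])
    exact hz.2 (Opens.mem_sSup.2 ⟨W', ⟨hle, hW'.trans (map_zero _)⟩, hzW⟩)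
  obtain ⟨T, hT⟩ := exists_cl hZ hO
  refine (res_H0_bijective T hV.isCompact).1 (Eq.trans ?_ (map_zero _).symm)
  refine section_ext G _ _ fun z hz => ?_
  obtain ⟨O', ⟨hO'V, hO'⟩, hzO'⟩ := Opens.mem_sSup.1 (hT hz)
  rw [germ_res, map_zero, ← germ_res G hO'V hzO' g, hO', map_zero]

/-- The finiteness of the sections of `H⁰_{X/Z}(F)` over an affine open. -/
theorem finite_H0_sections (hF : Coh.IsCoh F) (hZ : StableUnderSpecialization Z) {V : X.Opens} (hV : IsAffineOpen V)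
    (hbase : ∀ (x : X) (hx : x ∈ V), x ∈ AssSch.Ass F → x ∉ Z →
      ∀ (L : Type u) [AddCommGroup L] [Module Γ(X, V) L]
        (f : (Γ(X, V) ⧸ (hV.primeIdealOf ⟨x, hx⟩).asIdeal) →ₗ[Γ(X, V)] L)
        [IsLocalizedModule (hV.primeIdealOf ⟨x, hx⟩).asIdeal.primeCompl f],
        (Bound.Clo {y : PrimeSpectrum Γ(X, V) | hV.fromSpec y ∈ Z} f).FG) :
    Module.Finite Γ(X, V) Γ((ZClos.H0 Z).obj F, V) := by
  haveI : IsNoetherianRing Γ(X, V) := IsLocallyNoetherian.component_noetherian ⟨V, hV⟩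
  haveI := finite_sections hF hV
  set G := (ZClos.H0 Z).obj F with hGdef
  have hG : Coh.IsQCoh G := isQCoh_H0 hF.1
  let W : Set (PrimeSpectrum Γ(X, V)) := {y | hV.fromSpec y ∈ Z}
  have hpt : ∀ y : PrimeSpectrum Γ(X, V), ∃ (z : X) (hz : z ∈ V), hV.primeIdealOf ⟨z, hz⟩ = y := fun y =>
    have hz : hV.fromSpec y ∈ V := by rw [← SetLike.mem_coe, ← hV.range_fromSpec]; exact ⟨y, rfl⟩
    ⟨_, hz, hV.fromSpec.isOpenEmbedding.injective (hV.fromSpec_primeIdealOf ⟨_, hz⟩)⟩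
  have hback : ∀ (z : X) (hz : z ∈ V), (hV.primeIdealOf ⟨z, hz⟩ ∈ W ↔ z ∈ Z) := fun z hz => by
    show hV.fromSpec _ ∈ Z ↔ _
    rw [hV.fromSpec_primeIdealOf]
  let ρ : Γ(F, V) →ₗ[Γ(X, V)] Γ(G, V) :=
    { toFun := (ZClos.rhoApp Z F).app V
      map_add' := map_add _
      map_smul' := fun r m => Scheme.Modules.Hom.app_smul _ r m }
  refine Bound.finite_of_closure (W := W) ?_ ρ ?_ ?_ ?_ ?_
  · intro y y' hy hle
    obtain ⟨z, hz, rfl⟩ := hpt y
    obtain ⟨z', hz', rfl⟩ := hpt y'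
    exact (hback z' hz').2 (hZ ((AssLib.primeIdealOf_le_iff hV hz' hz).1 hle) ((hback z hz).1 hy))
  · intro g y hy
    obtain ⟨z, hz, rfl⟩ := hpt y
    obtain ⟨r, m, hr, hm⟩ := H0_surj hF.1 hV g hz (mt (hback z hz).2 hy)
    exact ⟨r, (QCoh.mem_basicOpen_iff_notMem hV hz r).1 hr, m, hm⟩
  · intro m hm y hy
    obtain ⟨z, hz, rfl⟩ := hpt y
    obtain ⟨r, hr, h0⟩ := H0_inj hF.1 hV m hm hz (mt (hback z hz).2 hy)
    exact ⟨r, (QCoh.mem_basicOpen_iff_notMem hV hz r).1 hr, h0⟩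
  · intro g hg
    refine H0_sep hF.1 hZ hV g fun z hz hzZ => ?_
    obtain ⟨r, hr, h0⟩ := hg _ (mt (hback z hz).1 hzZ)
    exact ⟨r, (QCoh.mem_basicOpen_iff_notMem hV hz r).2 hr, h0⟩
  · intro y hy hya L _ _ f _
    obtain ⟨z, hz, rfl⟩ := hpt y
    exact hbase _ hz ((AssLib.mem_ass_iff hF.1 hV hz).2 hya) (mt (hback z hz).2 hy) L f

end Groth.Agent.ZClosLib
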