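import Groth.Agent.ZClosLib.CohCrit
import Groth.Agent.Algz7.Tilde
import Groth.Prelude.Def_EGA4c

/-!
# Finiteness of height-one hulls and coherence of closures on affine schemes
-/

set_option autoImplicit false
set_option linter.style.haveILetI false
set_option backward.isDefEq.respectTransparency false
set_option backward.isDefEq.respectTransparency.types false

universe u

open CategoryTheory CategoryTheory.Limits AlgebraicGeometry TopologicalSpace Opposite

namespace Groth.Agent.ZClosLib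

variable {A : Type u} [CommRing A] [IsNoetherianRing A] {M : Type u} [AddCommGroup M] [Module A M]

/-- `X = Spec A`. -/
local notation "SA" => Spec (CommRingCat.of A)

/-- The function given by an element. -/
noncomputable abbrev fn (a : A) : Γ(SA, ⊤) := (Scheme.ΓSpecIso (CommRingCat.of A)).inv a

theorem mem_basicOpen_fn (a : A) (z : SA) : z ∈ (SA).basicOpen (fn a) ↔ a ∉ (z : PrimeSpectrum A).asIdeal := by
  exact (congrArg (fun O : Opens (Spec (CommRingCat.of A)) => z ∈ O)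
    (basicOpen_eq_of_affine (R := CommRingCat.of A) a)).to_iff

variable (M) in
theorem isQCoh_tildeOf : Coh.IsQCoh (EGA4.tildeOf A M) :=
  QCoh.isQCoh_spec_iff.2 ((tilde.functor (CommRingCat.of A)).obj_mem_essImage _)

variable (M) (Z : Set (PrimeSpectrum A))

/-- The sections of the closure as an `A`-module. -/
noncomputable abbrev clG : ModuleCat.{u} (CommRingCat.of A) :=
  moduleSpecΓFunctor.obj ((ZClos.H0 (X := SA) Z).obj (EGA4.tildeOf A M))

/-- The map from `M` to the sections of its closure. -/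
noncomputable def clρ : M →ₗ[A] clG M Z :=
  ((tilde.toTildeΓNatIso.app (ModuleCat.of (CommRingCat.of A) M)).hom ≫
    moduleSpecΓFunctor.map (ZClos.rhoApp (X := SA) Z (EGA4.tildeOf A M))).hom

variable {M Z}

theorem clρ_surj (y : PrimeSpectrum A) (hy : y ∉ Z) (g : clG M Z) :
    ∃ r ∉ y.asIdeal, r • g ∈ LinearMap.range (clρ M Z) := by
  obtain ⟨r, m, hr, hm⟩ := H0_surj (X := SA) (Z := Z) (F := EGA4.tildeOf A M) (isQCoh_tildeOf M)
    (isAffineOpen_top SA) g (z := y) trivial hy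
  obtain ⟨a, rfl⟩ : ∃ a, fn a = r := ⟨(Scheme.ΓSpecIso _).hom r, (Scheme.ΓSpecIso _).hom_inv_id_apply r⟩
  let e := (tilde.toTildeΓNatIso.app (ModuleCat.of (CommRingCat.of A) M)).toLinearEquiv
  refine ⟨a, (mem_basicOpen_fn a y).1 hr, e.symm m, ?_⟩
  show (moduleSpecΓFunctor.map (ZClos.rhoApp (X := SA) Z (EGA4.tildeOf A M))).hom (e (e.symm m)) = _
  rw [e.apply_symm_apply]
  exact hm

theorem clρ_inj (y : PrimeSpectrum A) (hy : y ∉ Z) (m : M) (hm : clρ M Z m = 0) :
    ∃ r ∉ y.asIdeal, r • m = 0 := by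
  let e := (tilde.toTildeΓNatIso.app (ModuleCat.of (CommRingCat.of A) M)).toLinearEquiv
  obtain ⟨r, hr, h0⟩ := H0_inj (X := SA) (Z := Z) (F := EGA4.tildeOf A M) (isQCoh_tildeOf M)
    (isAffineOpen_top SA) (e m) hm (z := y) trivial hy
  obtain ⟨a, rfl⟩ : ∃ a, fn a = r := ⟨(Scheme.ΓSpecIso _).hom r, (Scheme.ΓSpecIso _).hom_inv_id_apply r⟩
  refine ⟨a, (mem_basicOpen_fn a y).1 hr, e.injective ?_⟩
  rw [map_smul, map_zero]
  exact h0

theorem cl_sep (hZ : StableUnderSpecialization Z) (g : clG M Z)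
    (hg : ∀ y ∉ Z, ∃ r ∉ y.asIdeal, r • g = 0) : g = 0 := by
  refine H0_sep (X := SA) (Z := Z) (F := EGA4.tildeOf A M) (isQCoh_tildeOf M) hZ
    (isAffineOpen_top SA) g fun z _ hz => ?_
  obtain ⟨a, ha, h0⟩ := hg z hz
  exact ⟨fn a, (mem_basicOpen_fn a z).2 ha, h0⟩

theorem isCoh_H0_tilde_iff :
    Coh.IsCoh ((ZClos.H0 (X := SA) Z).obj (EGA4.tildeOf A M)) ↔ Module.Finite A (clG M Z) := by
  have hq : Coh.IsQCoh ((ZClos.H0 (X := SA) Z).obj (EGA4.tildeOf A M)) :=
    isQCoh_H0 (isQCoh_tildeOf M)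
  refine ⟨fun h => (QCoh.isFT_iff_finite _ hq).1 h.2, fun h => ⟨hq, (QCoh.isFT_iff_finite _ hq).2 h⟩⟩

theorem finite_clG [Module.Finite A M] (hZ : StableUnderSpecialization Z)
    (hull : ∀ (q : Ideal A) [q.IsPrime], EGA4.HeightOneHullFinite (A ⧸ q))
    (hht : ∀ x : PrimeSpectrum A, x.asIdeal ∈ associatedPrimes A M → x ∉ Z →
          ∀ y ∈ Z, x.asIdeal ≤ y.asIdeal → (2 : ℕ∞) ≤ (y.asIdeal.map (Ideal.Quotient.mk x.asIdeal)).height) :
    Module.Finite A (clG M Z) := by
  refine Bound.finite_of_closure (W := Z) (fun y y' hy hle => hZ ((PrimeSpectrum.le_iff_specializes y y').1 hle) hy)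
    (clρ M Z) (fun g y hy => clρ_surj y hy g) (fun m hm y hy => clρ_inj y hy m hm) (cl_sep hZ) ?_
  intro y hy hya L _ _ f _
  refine clo_quotient_fg Z y.asIdeal (fun y' hy' hle => hht y hya hy y' hy' hle) ?_ L f
  obtain ⟨B, hB, hBfin⟩ := hull y.asIdeal
  haveI := hBfin
  have h : B = hullAlg (A ⧸ y.asIdeal) := SetLike.coe_injective hB
  exact h ▸ hBfin

set_option maxHeartbeats 1000000 in
/-- Sections of the closure are glued from compatible fractions. -/
theorem exists_clG_glue (hZ : StableUnderSpecialization Z) {I : Type u} (c : I → A) (m : I → M)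
    (hrel₀ : ∀ i j, clρ M Z (c i • m j) = clρ M Z (c j • m i))
    (hcov : ∀ y ∉ Z, ∃ i, c i ∉ y.asIdeal) :
    ∃ σ : clG M Z, ∀ i, c i • σ = clρ M Z (m i) := by
  let G := (ZClos.H0 (X := SA) Z).obj (EGA4.tildeOf A M)
  let W : I → (SA).Opens := fun i => (SA).basicOpen (fn (c i))
  let U : (SA).Opens := ⨆ i, W i
  obtain ⟨T, hT⟩ := exists_cl (X := SA) (Z := Z) hZ (W := ⊤) (O := U) (fun z hz => by
    by_contra hzZ
    obtain ⟨i, hi⟩ := hcov z hzZ
    exact hz.2 (Opens.mem_iSup.2 ⟨i, (mem_basicOpen_fn (c i) z).2 hi⟩))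
  let sm : I → Γ(G, ⊤) := fun i => clρ M Z (m i)
  have hinv : ∀ i : I, ∃ u : Γ(G, W i), ∀ z (hz : z ∈ W i),
      (SA).presheaf.germ ⊤ z trivial (fn (c i)) • G.presheaf.germ (W i) z hz u = G.presheaf.germ ⊤ z trivial (sm i) :=
    fun i => exists_div (fn (c i)) le_rfl (sm i)
  choose sec hsec using hinv
  have hrel : ∀ i j : I, c i • clρ M Z (m j) = c j • clρ M Z (m i) := fun i j => by
    rw [← map_smul, ← map_smul]
    exact hrel₀ i j
  have hrel' : ∀ (i j : I) (z : SA), (SA).presheaf.germ ⊤ z trivial (fn (c i)) • G.presheaf.germ ⊤ z trivial (sm j) =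
      (SA).presheaf.germ ⊤ z trivial (fn (c j)) • G.presheaf.germ ⊤ z trivial (sm i) := by
    intro i j z
    rw [← QCoh.germ_smul', ← QCoh.germ_smul']
    exact congrArg (G.presheaf.germ ⊤ z trivial) (hrel i j)
  have hunit : ∀ (i : I) (z : SA), z ∈ W i → IsUnit ((SA).presheaf.germ ⊤ z trivial (fn (c i))) := fun i z hz =>
    isUnit_germ_of_mem hz
  have hagree : ∀ (i j : I) (z : SA) (hzi : z ∈ W i) (hzj : z ∈ W j),
      G.presheaf.germ (W i) z hzi (sec i) = G.presheaf.germ (W j) z hzj (sec j) := fun i j z hzi hzj => by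
    apply ((hunit i z hzi).mul (hunit j z hzj)).smul_left_cancel.1
    rw [mul_smul, mul_smul, hsec j, smul_comm, hsec i, hrel']
  obtain ⟨t, ht⟩ := exists_glue G W (fun i => le_iSup W i) (fun z hz => Opens.mem_iSup.1 hz) sec
    (fun i j => section_ext G _ _ fun z hz => by
      rw [germ_res, germ_res]
      exact hagree i j z hz.1 hz.2)
  obtain ⟨σ, hσ⟩ := (res_H0_bijective (Z := Z) (F := EGA4.tildeOf A M) T (isAffineOpen_top SA).isCompact).2
    (res G hT t)
  refine ⟨σ, fun i => ?_⟩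
  show (fn (c i) • σ : Γ(G, ⊤)) = sm i
  apply (res_H0_bijective (Z := Z) (F := EGA4.tildeOf A M) T (isAffineOpen_top SA).isCompact).1
  refine section_ext G _ _ fun z hz => ?_
  obtain ⟨k, hk⟩ := Opens.mem_iSup.1 (hT hz)
  rw [germ_res, germ_res, QCoh.germ_smul']
  have hσz : G.presheaf.germ ⊤ z trivial σ = G.presheaf.germ (W k) z hk (sec k) := by
    rw [← ht k, germ_res, ← germ_res G (inf_le_left : ⊤ ⊓ T.U ≤ ⊤) hz, hσ, germ_res]
  rw [hσz]
  apply (hunit k z hk).smul_left_cancel.1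
  rw [smul_comm, hsec k]
  exact hrel' i k z

theorem hull_of_coh
    (h : ∀ (M : Type u) [AddCommGroup M] [Module A M] [Module.Finite A M]
        (Z : Set (PrimeSpectrum A)), StableUnderSpecialization Z →
        (∀ x : PrimeSpectrum A, x.asIdeal ∈ associatedPrimes A M → x ∉ Z →
          ∀ y ∈ Z, x.asIdeal ≤ y.asIdeal → (2 : ℕ∞) ≤ (y.asIdeal.map (Ideal.Quotient.mk x.asIdeal)).height) →
        Coh.IsCoh ((ZClos.H0 (X := SA) Z).obj (EGA4.tildeOf A M)))
    (q : Ideal A) [q.IsPrime] : EGA4.HeightOneHullFinite (A ⧸ q) := by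
  classical
  let Z : Set (PrimeSpectrum A) :=
    {y | q ≤ y.asIdeal ∧ (2 : ℕ∞) ≤ (y.asIdeal.map (Ideal.Quotient.mk q)).height}
  have hZ : StableUnderSpecialization Z := fun a b hab ha =>
    have hle := (PrimeSpectrum.le_iff_specializes a b).2 hab
    ⟨ha.1.trans hle, ha.2.trans (Ideal.height_mono (Ideal.map_mono hle))⟩
  have hass : ∀ x : PrimeSpectrum A, x.asIdeal ∈ associatedPrimes A (A ⧸ q) → x.asIdeal = q := fun x hx => by
    obtain ⟨hp, z, hz⟩ := isAssociatedPrime_iff.1 hx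
    obtain ⟨z, rfl⟩ := Ideal.Quotient.mk_surjective z
    ext r
    rw [hz, Submodule.mem_colon_singleton, Submodule.mem_bot, Algebra.smul_def, Ideal.Quotient.algebraMap_eq,
      ← map_mul, Ideal.Quotient.eq_zero_iff_mem]
    refine ⟨fun h => ((inferInstance : q.IsPrime).mem_or_mem h).resolve_right fun hzq => hp.ne_top ?_,
      fun h => q.mul_mem_right _ h⟩
    rw [Ideal.eq_top_iff_one, hz, Submodule.mem_colon_singleton, Submodule.mem_bot, one_smul,
      Ideal.Quotient.eq_zero_iff_mem]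
    exact hzq
  have hG : Module.Finite A (clG (A ⧸ q) Z) :=
    isCoh_H0_tilde_iff.1 (h (A ⧸ q) Z hZ fun x hx _ y hy _ => by rw [hass x hx]; exact hy.2)
  haveI := hG
  have hqZ : (⟨q, inferInstance⟩ : PrimeSpectrum A) ∉ Z := fun hq => by
    have h2 : (2 : ℕ∞) ≤ (q.map (Ideal.Quotient.mk q)).height := hq.2
    rw [Ideal.map_quotient_self, Ideal.height_bot] at h2
    exact absurd h2 (by norm_num)
  let K := FractionRing (A ⧸ q)
  let ι : (A ⧸ q) →ₗ[A] K := (Algebra.linearMap (A ⧸ q) K).restrictScalars A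
  have hιinj : Function.Injective ι := IsFractionRing.injective (A ⧸ q) K
  have hu : ∀ s : q.primeCompl, IsUnit ((algebraMap A (Module.End A K)) s) := fun s => by
    rw [Module.End.isUnit_iff]
    have h0 : algebraMap A K s ≠ 0 := by
      rw [IsScalarTower.algebraMap_apply A (A ⧸ q) K]
      exact fun h => s.2 (Ideal.Quotient.eq_zero_iff_mem.1 (hιinj (h.trans (map_zero ι).symm)))
    refine ⟨fun a b h => ?_, fun b => ⟨(algebraMap A K s)⁻¹ * b, ?_⟩⟩
    · simp only [Module.algebraMap_end_apply, Algebra.smul_def] at h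
      exact mul_left_cancel₀ h0 h
    · simp only [Module.algebraMap_end_apply, Algebra.smul_def, mul_inv_cancel_left₀ h0]
  let fq : (A ⧸ q) →ₗ[A] LocalizedModule q.primeCompl (A ⧸ q) := LocalizedModule.mkLinearMap _ _
  obtain ⟨φ, hφ⟩ := Bound.exists_extend q (clρ (A ⧸ q) Z) (fun g => clρ_surj _ hqZ g)
    (fun m hm => clρ_inj _ hqZ m hm) fq LinearMap.id
  let θ : clG (A ⧸ q) Z →ₗ[A] K := IsLocalizedModule.lift q.primeCompl fq ι hu ∘ₗ φ
  have hθ : ∀ m, θ (clρ (A ⧸ q) Z m) = ι m := fun m => by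
    show IsLocalizedModule.lift q.primeCompl fq ι hu (φ _) = _
    rw [hφ]
    exact IsLocalizedModule.lift_apply q.primeCompl fq ι hu m
  refine ⟨hullAlg (A ⧸ q), rfl, ?_⟩
  suffices hsub : ∀ x ∈ EGA4.heightOneHull (A ⧸ q), x ∈ LinearMap.range θ by
    let S : Submodule A K := (Subalgebra.toSubmodule (hullAlg (A ⧸ q))).restrictScalars A
    haveI : Module.Finite A S := Module.Finite.iff_fg.2
      (Bound.fg_of_le (by rw [LinearMap.range_eq_map]; exact hG.fg_top.map θ) fun x hx => hsub x hx)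
    haveI : Module.Finite A (hullAlg (A ⧸ q)) := Module.Finite.of_surjective
      ({ toFun := fun x : S => (⟨x.1, x.2⟩ : hullAlg (A ⧸ q)), map_add' := fun _ _ => rfl,
         map_smul' := fun _ _ => rfl } : S →ₗ[A] hullAlg (A ⧸ q)) (fun x => ⟨⟨x.1, x.2⟩, rfl⟩)
    exact Module.Finite.of_restrictScalars_finite A _ _
  intro x hx
  -- the denominators of `x`
  have hden : ∀ y : PrimeSpectrum A, y ∉ Z → ∃ c ∉ y.asIdeal, ∃ m, ι m = c • x := by
    intro y hy
    by_cases hqy : q ≤ y.asIdeal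
    · have hlt : (y.asIdeal.map (Ideal.Quotient.mk q)).height < 2 := lt_of_not_ge fun h => hy ⟨hqy, h⟩
      haveI : (y.asIdeal.map (Ideal.Quotient.mk q)).IsPrime :=
        Ideal.map_isPrime_of_surjective Ideal.Quotient.mk_surjective (by rw [Ideal.mk_ker]; exact hqy)
      have hcomap : (y.asIdeal.map (Ideal.Quotient.mk q)).comap (Ideal.Quotient.mk q) = y.asIdeal :=
        Ideal.comap_map_quotientMk q y.asIdeal |>.trans (sup_eq_right.2 hqy)
      rcases (Order.le_one_iff.1 ((ENat.lt_add_one_iff (by simp)).1 (by rw [one_add_one_eq_two]; exact hlt))) with h0 | h1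
      · rw [Ideal.height_eq_zero_iff_eq_bot] at h0
        obtain ⟨a, b, hb, rfl⟩ := IsFractionRing.div_surjective (A ⧸ q) x
        obtain ⟨b, rfl⟩ := Ideal.Quotient.mk_surjective b
        refine ⟨b, fun hby => nonZeroDivisors.ne_zero hb ?_, a, ?_⟩
        · exact Ideal.mem_bot.1 (h0 ▸ Ideal.mem_map_of_mem _ hby)
        · rw [Algebra.smul_def, IsScalarTower.algebraMap_apply A (A ⧸ q) K, Ideal.Quotient.algebraMap_eq,
            mul_div_cancel₀]
          · rfl
          · exact fun h => nonZeroDivisors.ne_zero hb (hιinj (h.trans (map_zero ι).symm))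
      · obtain ⟨s, hs, a, ha⟩ := hx _ h1
        obtain ⟨s, rfl⟩ := Ideal.Quotient.mk_surjective s
        refine ⟨s, fun h => hs (Ideal.mem_map_of_mem _ h), a, ?_⟩
        rw [Algebra.smul_def, IsScalarTower.algebraMap_apply A (A ⧸ q) K, Ideal.Quotient.algebraMap_eq]
        exact ha
    · obtain ⟨c, hc, hcy⟩ := SetLike.not_le_iff_exists.1 hqy
      refine ⟨c, hcy, 0, ?_⟩
      rw [map_zero, Algebra.smul_def, IsScalarTower.algebraMap_apply A (A ⧸ q) K, Ideal.Quotient.algebraMap_eq,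
        Ideal.Quotient.eq_zero_iff_mem.2 hc, map_zero, zero_mul]
  let I := {cm : A × (A ⧸ q) // ι cm.2 = cm.1 • x}
  obtain ⟨σ, hσ⟩ := exists_clG_glue hZ (fun i : I => i.1.1) (fun i : I => i.1.2)
    (fun i j => by
      congr 1
      apply hιinj
      rw [map_smul, map_smul, i.2, j.2, smul_comm])
    (fun y hy => by
      obtain ⟨c, hc, m, hm⟩ := hden y hy
      exact ⟨⟨(c, m), hm⟩, hc⟩)
  obtain ⟨c, hc, m, hm⟩ := hden ⟨q, inferInstance⟩ hqZ
  refine ⟨σ, ?_⟩
  have h := congrArg θ (hσ ⟨(c, m), hm⟩)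
  rw [map_smul, hθ, hm] at h
  exact ((Module.End.isUnit_iff _).1 (hu ⟨c, hc⟩)).1 h

theorem hull_iff (A : Type u) [CommRing A] [IsNoetherianRing A] :
    (∀ (q : Ideal A) [q.IsPrime], EGA4.HeightOneHullFinite (A ⧸ q)) ↔
      ∀ (M : Type u) [AddCommGroup M] [Module A M] [Module.Finite A M]
        (Z : Set (PrimeSpectrum A)), StableUnderSpecialization Z →
        (∀ x : PrimeSpectrum A, x.asIdeal ∈ associatedPrimes A M → x ∉ Z →
          ∀ y ∈ Z, x.asIdeal ≤ y.asIdeal → (2 : ℕ∞) ≤ (y.asIdeal.map (Ideal.Quotient.mk x.asIdeal)).height) →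
        Coh.IsCoh ((ZClos.H0 (X := Spec (CommRingCat.of A)) Z).obj (EGA4.tildeOf A M)) :=
  ⟨fun hull _ _ _ _ _ hZ hht => isCoh_H0_tilde_iff.2 (finite_clG hZ hull hht), fun h q _ => hull_of_coh h q⟩

end Groth.Agent.ZClosLib
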