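import Groth.Agent.ZClosLib.CohCrit
import Groth.Agent.SecFin.Normal
import Groth.Agent.SheafHomX.Coherent
import Groth.Prelude.Def_Found

/-!
# Coherence of the closure from coherence of direct images
-/

set_option autoImplicit false
set_option linter.style.haveILetI false
set_option backward.isDefEq.respectTransparency false
set_option backward.isDefEq.respectTransparency.types false

universe u

open CategoryTheory CategoryTheory.Limits AlgebraicGeometry TopologicalSpace Opposite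

namespace Groth.Agent.ZClosLib

theorem ringKrullDim_le_height_map {R S : Type u} [CommRing R] [CommRing S] [IsLocalRing S] [Algebra R S]
    (y : Ideal R) [y.IsPrime] [IsLocalization.AtPrime S y] (P : Ideal S) [Nontrivial (S ⧸ P)] (p : Ideal R)
    (hP : P.comap (algebraMap R S) = p) :
    ringKrullDim (S ⧸ P) ≤ ((y.map (Ideal.Quotient.mk p)).height : WithBot ℕ∞) := by
  let ψ : R ⧸ p →+* S ⧸ P := Ideal.quotientMap P (algebraMap R S) hP.ge
  have hψ : ∀ r, ψ (Ideal.Quotient.mk p r) = Ideal.Quotient.mk P (algebraMap R S r) := fun r => rfl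
  have hinj : Function.Injective (PrimeSpectrum.comap ψ) := by
    intro a b h
    have h1 : (PrimeSpectrum.comap (algebraMap R S)) (PrimeSpectrum.comap (Ideal.Quotient.mk P) a) =
        (PrimeSpectrum.comap (algebraMap R S)) (PrimeSpectrum.comap (Ideal.Quotient.mk P) b) := by
      have h2 := congrArg (PrimeSpectrum.comap (Ideal.Quotient.mk p)) h
      exact h2
    exact PrimeSpectrum.comap_injective_of_surjective _ Ideal.Quotient.mk_surjective
      (PrimeSpectrum.localization_comap_injective S y.primeCompl h1)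
  have hsm : StrictMono (PrimeSpectrum.comap ψ) := fun a b hab =>
    lt_of_le_of_ne (fun r hr => hab.le hr) fun h => hab.ne (hinj h)
  haveI : IsLocalRing (S ⧸ P) := IsLocalRing.of_surjective' _ Ideal.Quotient.mk_surjective
  let m : PrimeSpectrum (S ⧸ P) := ⟨IsLocalRing.maximalIdeal _, inferInstance⟩
  rw [← IsLocalRing.maximalIdeal_height_eq_ringKrullDim, WithBot.coe_le_coe,
    show (IsLocalRing.maximalIdeal (S ⧸ P)).height = m.asIdeal.height from rfl, m.height_eq_orderHeight]
  refine le_trans (Order.height_le_height_apply_of_strictMono _ hsm m) ?_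
  rw [← (PrimeSpectrum.comap ψ m).height_eq_orderHeight]
  refine Ideal.height_mono fun z hz => ?_
  obtain ⟨r, rfl⟩ := Ideal.Quotient.mk_surjective z
  refine Ideal.mem_map_of_mem _ ?_
  have hr : ¬ IsUnit (Ideal.Quotient.mk P (algebraMap R S r)) := hz
  by_contra hry
  exact hr ((IsLocalization.map_units S (⟨r, hry⟩ : y.primeCompl)).map _)

variable {X : Scheme.{u}} [IsLocallyNoetherian X]

theorem isCoh_H0_closed {Z : Set X} {F : X.Modules} (T : ZClos.Cl Z)
    (h : Coh.IsCoh ((ZClos.resPush T.U).obj F)) : Coh.IsCoh ((ZClos.H0 (T.1 : Set X)).obj F) := by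
  let T₀ : ZClos.Cl (T.1 : Set X) := ⟨T.1, subset_rfl⟩
  have ht : IsTerminal T₀ := IsTerminal.ofUniqueHom (fun S => homOfLE (show S ≤ T₀ from S.2)) fun _ _ => Subsingleton.elim _ _
  let e : (ZClos.H0 (T.1 : Set X)).obj F ≅ ((ZClos.diagram (T.1 : Set X)).obj F).obj T₀ :=
    IsColimit.coconePointUniqueUpToIso (colimit.isColimit _) (colimitOfDiagramTerminal ht _)
  exact SheafHomX.isCoh_of_iso e.symm h

theorem isCoh_H0_of_resPush {Z : Set X} (hZ : StableUnderSpecialization Z) {F : X.Modules} (hF : Coh.IsCoh F)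
    (hX : ∀ (V : X.Opens) (hV : IsAffineOpen V) (x : X) (hxV : x ∈ V), x ∈ AssSch.Ass F →
        CAlg.IsUniversallyCatenary (Γ(X, V) ⧸ (hV.primeIdealOf ⟨x, hxV⟩).asIdeal) ∧
          CAlg.IsN1 (Γ(X, V) ⧸ (hV.primeIdealOf ⟨x, hxV⟩).asIdeal))
    (hT : ∀ z ∈ Z, ∃ T : ZClos.Cl Z, z ∈ (T.1 : Set X) ∧ Coh.IsCoh ((ZClos.resPush T.U).obj F)) :
    Coh.IsCoh ((ZClos.H0 Z).obj F) := by
  refine QCoh.isCoh_iff.2 ⟨isQCoh_H0 hF.1, fun V => ?_⟩
  refine finite_H0_sections hF hZ V.2 fun x hx hxa hxZ L _ _ f _ => ?_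
  haveI : IsNoetherianRing Γ(X, V.1) := IsLocallyNoetherian.component_noetherian V
  refine clo_quotient_fg _ _ (fun y hy hle => ?_) ?_ L f
  · obtain ⟨z, hz, rfl⟩ : ∃ (z : X) (hz : z ∈ V.1), V.2.primeIdealOf ⟨z, hz⟩ = y :=
      have hz : V.2.fromSpec y ∈ V.1 := by rw [← SetLike.mem_coe, ← V.2.range_fromSpec]; exact ⟨y, rfl⟩
      ⟨_, hz, V.2.fromSpec.isOpenEmbedding.injective (V.2.fromSpec_primeIdealOf ⟨_, hz⟩)⟩
    have hzZ : z ∈ Z := by
      have : V.2.fromSpec (V.2.primeIdealOf ⟨z, hz⟩) ∈ Z := hy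
      rwa [V.2.fromSpec_primeIdealOf] at this
    have hxz : x ⤳ z := (AssLib.primeIdealOf_le_iff V.2 hz hx).1 hle
    obtain ⟨T, hzT, hTc⟩ := hT z hzZ
    have h2 := two_le_dim_quot (Z := (T.1 : Set X)) hF.1 (isCoh_H0_closed T hTc)
      (T.1.isClosed.stableUnderSpecialization) hxa (fun h => hxZ (T.2 h)) hzT hxz
    letI := QCoh.stalkAlg (X := X) hz
    haveI := QCoh.isLocalization_stalk' V.2 hz
    set P := (IsLocalRing.maximalIdeal (X.presheaf.stalk x)).comap (X.presheaf.stalkSpecializes hxz).hom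
    haveI : Nontrivial (X.presheaf.stalk z ⧸ P) :=
      Ideal.Quotient.nontrivial_iff.mpr (Ideal.IsPrime.ne_top inferInstance)
    have hcomap : P.comap (algebraMap Γ(X, V.1) (X.presheaf.stalk z)) = (V.2.primeIdealOf ⟨x, hx⟩).asIdeal := by
      show P.comap (X.presheaf.germ V.1 z hz).hom = _
      rw [← AssLib.comap_maximalIdeal_stalk V.2 hx, Ideal.comap_comap, ← CommRingCat.hom_comp,
        X.presheaf.germ_stalkSpecializes hz hxz]
    have h3 := h2.trans (ringKrullDim_le_height_map (V.2.primeIdealOf ⟨z, hz⟩).asIdeal P _ hcomap)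
    exact WithBot.coe_le_coe.1 h3
  · obtain ⟨hcat, hn1⟩ := hX V.1 V.2 x hx hxa
    exact SecFin.finite_of_le_heightOneHull _ hcat hn1 (hullAlg _) subset_rfl

end Groth.Agent.ZClosLib
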