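import Groth.Agent.CAlgMisc.TorsionFree
import Groth.Prelude.Def_EGA4b

/-!
# Finiteness of the closure of a module along a set of primes
-/

set_option autoImplicit false
set_option linter.style.haveILetI false

namespace Groth.Agent.ZClosLib.Bound

universe u

variable {R : Type u} [CommRing R] (W : Set (PrimeSpectrum R))
variable {N L N' L' : Type u} [AddCommGroup N] [Module R N] [AddCommGroup L] [Module R L]
  [AddCommGroup N'] [Module R N'] [AddCommGroup L'] [Module R L']

/-- The elements of `L` which, outside `W`, come from `N`. -/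
def Clo (f : N →ₗ[R] L) : Submodule R L where
  carrier := {v | ∀ y ∉ W, ∃ r ∉ y.asIdeal, r • v ∈ LinearMap.range f}
  zero_mem' := fun y _ => ⟨1, fun h => y.isPrime.ne_top ((Ideal.eq_top_iff_one _).2 h), by simp⟩
  add_mem' := fun {a b} ha hb y hy => by
    obtain ⟨r, hr, hra⟩ := ha y hy
    obtain ⟨r', hr', hrb⟩ := hb y hy
    refine ⟨r' * r, fun h => (y.isPrime.mem_or_mem h).elim hr' hr, ?_⟩
    rw [smul_add, mul_smul, mul_comm r' r, mul_smul]
    exact Submodule.add_mem _ (Submodule.smul_mem _ _ hra) (Submodule.smul_mem _ _ hrb)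
  smul_mem' := fun c a ha y hy => by
    obtain ⟨r, hr, hra⟩ := ha y hy
    exact ⟨r, hr, by rw [smul_comm]; exact Submodule.smul_mem _ _ hra⟩

variable {W}

theorem map_clo {f : N →ₗ[R] L} {f' : N' →ₗ[R] L'} {h : N →ₗ[R] N'} {g : L →ₗ[R] L'}
    (hg : ∀ n, g (f n) = f' (h n)) {v : L} (hv : v ∈ Clo W f) : g v ∈ Clo W f' := fun y hy => by
  obtain ⟨r, hr, n, hn⟩ := hv y hy
  exact ⟨r, hr, h n, by rw [← hg, hn, map_smul]⟩

/-- Elements outside `p` act injectively. -/
def TF (p : Ideal R) (N : Type u) [AddCommGroup N] [Module R N] : Prop :=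
  ∀ (r : R) (n : N), r ∉ p → r • n = 0 → n = 0

theorem injective_of_tf {p : Ideal R} [p.IsPrime] (h : TF p N) (f : N →ₗ[R] L) [IsLocalizedModule p.primeCompl f] :
    Function.Injective f := by
  rw [← LinearMap.ker_eq_bot, LinearMap.ker_eq_bot']
  intro n hn
  obtain ⟨c, hc⟩ := (IsLocalizedModule.eq_zero_iff p.primeCompl f).1 hn
  exact h c n c.2 hc

theorem fg_of_le {S T : Submodule R L} [IsNoetherianRing R] (hT : T.FG) (h : S ≤ T) : S.FG := by
  haveI := isNoetherian_of_fg_of_noetherian T hT
  have := (IsNoetherian.noetherian (S.comap T.subtype)).map T.subtype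
  rwa [Submodule.map_comap_eq_self (by simpa using h)] at this

variable [IsNoetherianRing R]

/-- The closure of every finite torsion-free module killed by a power of `p` is finite, once it is so for `R ⧸ p`. -/
theorem clo_fg_of_tf {p : Ideal R} [p.IsPrime]
    (hp : ∀ (L : Type u) [AddCommGroup L] [Module R L] (f : (R ⧸ p) →ₗ[R] L) [IsLocalizedModule p.primeCompl f],
      (Clo W f).FG) :
    ∀ (m : ℕ) (N : Type u) [AddCommGroup N] [Module R N] [Module.Finite R N], TF p N →
      (∀ (r : R), r ∈ p ^ m → ∀ n : N, r • n = 0) →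
      ∀ (L : Type u) [AddCommGroup L] [Module R L] (f : N →ₗ[R] L) [IsLocalizedModule p.primeCompl f],
        (Clo W f).FG := by
  intro m
  induction m with
  | zero =>
    intro N _ _ _ _ hkill L _ _ f _
    haveI : Subsingleton N := ⟨fun a b => by
      rw [← one_smul R a, ← one_smul R b, hkill 1 (by simp) a, hkill 1 (by simp) b]⟩
    haveI : Subsingleton L := ⟨fun a b => by
      obtain ⟨⟨x, s⟩, rfl⟩ := IsLocalizedModule.mk'_surjective p.primeCompl f a
      obtain ⟨⟨z, t⟩, rfl⟩ := IsLocalizedModule.mk'_surjective p.primeCompl f b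
      simp [Subsingleton.elim x 0, Subsingleton.elim z 0]⟩
    rw [Subsingleton.elim (Clo W f) ⊥]
    exact Submodule.fg_bot
  | succ m ih =>
    intro N _ _ _ htf hkill L _ _ f _
    -- the part killed by `p`
    let N1 : Submodule R N := Submodule.torsionBySet R N (p : Set R)
    let f1 : N1 →ₗ[R] LocalizedModule p.primeCompl N1 := LocalizedModule.mkLinearMap p.primeCompl N1
    let g1 : LocalizedModule p.primeCompl N1 →ₗ[R] L := IsLocalizedModule.map p.primeCompl f1 f N1.subtype
    have htf1 : TF p N1 := fun r n hr h => Subtype.ext (htf r n hr (congrArg Subtype.val h))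
    have h1 : (Clo W f1).FG := by
      letI : Module (R ⧸ p) N1 :=
        Module.IsTorsionBySet.module (Submodule.torsionBySet_isTorsionBySet (p : Set R))
      haveI : IsScalarTower R (R ⧸ p) N1 :=
        Module.IsTorsionBySet.isScalarTower (Submodule.torsionBySet_isTorsionBySet (p : Set R))
      haveI : Module.Finite (R ⧸ p) N1 := Module.Finite.of_restrictScalars_finite R _ _
      obtain ⟨k, β, α, c, d, hc, hd, hcd⟩ := CAlgMisc.exists_approx (R ⧸ p) N1
      have hβ : Function.Injective β := by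
        rw [← LinearMap.ker_eq_bot, LinearMap.ker_eq_bot']
        intro n hn
        have h := hcd n
        rw [hn, map_zero, zero_sub, smul_neg, neg_eq_zero] at h
        obtain ⟨c', rfl⟩ := Ideal.Quotient.mk_surjective c
        obtain ⟨d', rfl⟩ := Ideal.Quotient.mk_surjective d
        rw [← Ideal.Quotient.algebraMap_eq, algebraMap_smul, algebraMap_smul] at h
        refine htf1 c' n (fun h' => hc (Ideal.Quotient.eq_zero_iff_mem.2 h')) ?_
        exact htf1 d' _ (fun h' => hd (Ideal.Quotient.eq_zero_iff_mem.2 h')) h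
      let K := LocalizedModule p.primeCompl (R ⧸ p)
      let fR : (R ⧸ p) →ₗ[R] K := LocalizedModule.mkLinearMap p.primeCompl (R ⧸ p)
      let comp : ∀ i : Fin k, N1 →ₗ[R] (R ⧸ p) := fun i =>
        (LinearMap.proj i : (Fin k → R ⧸ p) →ₗ[R ⧸ p] (R ⧸ p)).restrictScalars R ∘ₗ β.restrictScalars R
      let G : LocalizedModule p.primeCompl N1 →ₗ[R] (Fin k → K) :=
        LinearMap.pi fun i => IsLocalizedModule.map p.primeCompl f1 fR (comp i)
      have hGf : ∀ n i, G (f1 n) i = fR (β n i) := fun n i =>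
        IsLocalizedModule.map_apply p.primeCompl f1 fR (comp i) n
      have hG : Function.Injective G := by
        rw [← LinearMap.ker_eq_bot, LinearMap.ker_eq_bot']
        intro v hv
        obtain ⟨⟨n, s⟩, rfl⟩ := IsLocalizedModule.mk'_surjective p.primeCompl f1 v
        simp only [Function.uncurry_apply_pair] at hv ⊢
        have hfR : Function.Injective fR := injective_of_tf (fun r n hr h => by
          obtain ⟨n, rfl⟩ := Ideal.Quotient.mk_surjective n
          replace h : Ideal.Quotient.mk p (r * n) = 0 := h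
          rcases (inferInstance : p.IsPrime).mem_or_mem (Ideal.Quotient.eq_zero_iff_mem.1 h) with h' | h'
          · exact absurd h' hr
          · exact Ideal.Quotient.eq_zero_iff_mem.2 h') fR
        have h0 : β n = 0 := funext fun i => hfR (by
          have h := congrArg (fun w => (s : R) • w i) hv
          simp only [Pi.zero_apply, smul_zero] at h
          rw [← Pi.smul_apply, ← map_smul] at h
          rw [show (fR ((0 : Fin k → R ⧸ p) i)) = 0 from map_zero fR, ← hGf, ← h]
          exact congrFun (congrArg G (IsLocalizedModule.mk'_cancel' f1 n s).symm) i)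
        have hn : n = 0 := hβ (h0.trans (map_zero β).symm)
        subst hn
        simp
      have hle : (Clo W f1).map G ≤ Submodule.pi Set.univ fun _ : Fin k => Clo W fR := by
        rintro _ ⟨v, hv, rfl⟩ i -
        exact map_clo (g := (LinearMap.proj i) ∘ₗ G) (h := comp i) (fun n => hGf n i) hv
      have hfg : (Submodule.pi Set.univ fun _ : Fin k => Clo W fR).FG := Submodule.fg_pi fun _ => hp K fR
      exact Submodule.fg_of_fg_map_injective G hG (fg_of_le hfg hle)
    -- the quotient
    let N2 := N ⧸ N1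
    let f2 : N2 →ₗ[R] LocalizedModule p.primeCompl N2 := LocalizedModule.mkLinearMap p.primeCompl N2
    let g2 : L →ₗ[R] LocalizedModule p.primeCompl N2 := IsLocalizedModule.map p.primeCompl f f2 N1.mkQ
    have htf2 : TF p N2 := fun r n hr h => by
      obtain ⟨n, rfl⟩ := Submodule.mkQ_surjective N1 n
      rw [← map_smul, Submodule.mkQ_apply, Submodule.Quotient.mk_eq_zero] at h
      refine (Submodule.Quotient.mk_eq_zero N1).2 ((Submodule.mem_torsionBySet_iff _ _).2 fun g => ?_)
      have := (Submodule.mem_torsionBySet_iff _ _).1 h g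
      rw [smul_comm] at this
      exact htf r _ hr this
    have hkill2 : ∀ r, r ∈ p ^ m → ∀ n : N2, r • n = 0 := fun r hr n => by
      obtain ⟨n, rfl⟩ := Submodule.mkQ_surjective N1 n
      rw [← map_smul, Submodule.mkQ_apply, Submodule.Quotient.mk_eq_zero, Submodule.mem_torsionBySet_iff]
      intro g
      rw [smul_smul]
      exact hkill _ (by rw [pow_succ, mul_comm (g : R)]; exact Ideal.mul_mem_mul hr g.2) n
    have h2 : (Clo W f2).FG := ih N2 htf2 hkill2 _ f2
    refine Submodule.fg_of_fg_map_of_fg_inf_ker g2 (fg_of_le h2 ?_) (fg_of_le (h1.map g1) ?_)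
    · rintro _ ⟨v, hv, rfl⟩
      exact map_clo (h := N1.mkQ) (fun n => IsLocalizedModule.map_apply p.primeCompl f f2 N1.mkQ n) hv
    · rintro v ⟨hv, hv0⟩
      obtain ⟨⟨n, s⟩, rfl⟩ := IsLocalizedModule.mk'_surjective p.primeCompl f v
      simp only [Function.uncurry_apply_pair] at hv hv0 ⊢
      have hs : (s : R) • IsLocalizedModule.mk' f n s = f n := IsLocalizedModule.mk'_cancel' f n s
      have hn : n ∈ N1 := by
        have h : f2 (N1.mkQ n) = 0 := by
          rw [← IsLocalizedModule.map_apply p.primeCompl f f2 N1.mkQ n, ← hs, map_smul]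
          show (s : R) • g2 _ = 0
          rw [LinearMap.mem_ker.1 hv0, smul_zero]
        exact (Submodule.Quotient.mk_eq_zero N1).1 (injective_of_tf htf2 f2 (h.trans (map_zero _).symm))
      refine ⟨IsLocalizedModule.mk' f1 ⟨n, hn⟩ s, fun y hy => ?_,
        IsLocalizedModule.map_mk' p.primeCompl f1 f N1.subtype ⟨n, hn⟩ s⟩
      obtain ⟨r, hr, x, hx⟩ := hv y hy
      refine ⟨r, hr, ?_⟩
      have hx1 : x ∈ N1 := by
        have h : f2 (N1.mkQ x) = 0 := by
          rw [← IsLocalizedModule.map_apply p.primeCompl f f2 N1.mkQ x, hx, map_smul]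
          show r • g2 _ = 0
          rw [LinearMap.mem_ker.1 hv0, smul_zero]
        exact (Submodule.Quotient.mk_eq_zero N1).1 (injective_of_tf htf2 f2 (h.trans (map_zero _).symm))
      refine ⟨⟨x, hx1⟩, IsLocalizedModule.map_injective p.primeCompl f1 f N1.subtype Subtype.val_injective ?_⟩
      rw [map_smul, IsLocalizedModule.map_mk', IsLocalizedModule.map_apply]
      exact hx

variable {M : Type u} [AddCommGroup M] [Module R M] [Module.Finite R M]

/-- A submodule with coprimary quotient, not having `p` as associated prime. -/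
theorem exists_coprimary (p : Ideal R) [p.IsPrime] :
    ∃ Q : Submodule R M, p ∉ associatedPrimes R Q ∧ associatedPrimes R (M ⧸ Q) ⊆ {p} := by
  obtain ⟨Q, hQ, hmax⟩ := set_has_maximal_iff_noetherian.2 (inferInstance : IsNoetherian R M)
    {Q : Submodule R M | p ∉ associatedPrimes R Q} ⟨⊥, by simp [associatedPrimes.eq_empty_of_subsingleton]⟩
  refine ⟨Q, hQ, fun q hq => ?_⟩
  obtain ⟨hqp, z, hz⟩ := isAssociatedPrime_iff.1 hq
  obtain ⟨x, rfl⟩ := Submodule.mkQ_surjective Q z
  by_contra hne
  have hxq : ∀ r, r ∈ q ↔ r • x ∈ Q := fun r => by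
    rw [hz, Submodule.mem_colon_singleton, Submodule.mem_bot, ← map_smul, Submodule.mkQ_apply,
      Submodule.Quotient.mk_eq_zero]
  let Q' := Q ⊔ Submodule.span R {x}
  have hlt : Q < Q' := lt_of_le_of_ne le_sup_left fun h => hqp.ne_top (Ideal.eq_top_iff_one _ |>.2 ((hxq 1).2 (by
    rw [one_smul]; exact h ▸ Submodule.mem_sup_right (Submodule.mem_span_singleton_self x))))
  refine hmax Q' ?_ hlt
  intro hp'
  obtain ⟨-, ⟨w, hw⟩, hwp⟩ := isAssociatedPrime_iff.1 hp'
  obtain ⟨v, hv, u', hu', rfl⟩ := Submodule.mem_sup.1 hw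
  obtain ⟨c, rfl⟩ := Submodule.mem_span_singleton.1 hu'
  have hmem : ∀ r, r ∈ p ↔ r • (v + c • x) = 0 := fun r => by
    rw [hwp, Submodule.mem_colon_singleton, Submodule.mem_bot]
    exact ⟨fun h => congrArg Subtype.val h, fun h => Subtype.ext h⟩
  by_cases hc : c • x ∈ Q
  · exact hQ (isAssociatedPrime_iff.2 ⟨inferInstance, ⟨v + c • x, Q.add_mem hv hc⟩, by
      ext r
      rw [hmem, Submodule.mem_colon_singleton, Submodule.mem_bot]
      exact ⟨fun h => Subtype.ext h, fun h => congrArg Subtype.val h⟩⟩)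
  · have hcq : c ∉ q := fun h => hc ((hxq c).1 h)
    have hpq : p ≤ q := fun r hr => by
      have h : r • (c • x) ∈ Q := by
        have := (hmem r).1 hr
        rw [smul_add, add_eq_zero_iff_eq_neg'] at this
        rw [this]
        exact Q.neg_mem (Q.smul_mem r hv)
      rw [smul_smul] at h
      exact (hqp.mem_or_mem ((hxq _).2 h)).resolve_right hcq
    obtain ⟨a, ha, hap⟩ := SetLike.exists_of_lt (lt_of_le_of_ne hpq fun h => hne h.symm)
    refine hQ (isAssociatedPrime_iff.2 ⟨inferInstance, ⟨a • (v + c • x), ?_⟩, ?_⟩)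
    · rw [smul_add, smul_smul, mul_comm, ← smul_smul]
      exact Q.add_mem (Q.smul_mem a hv) (Q.smul_mem c ((hxq a).1 ha))
    · ext r
      rw [Submodule.mem_colon_singleton, Submodule.mem_bot]
      refine ⟨fun h => Subtype.ext ?_, fun h => ?_⟩
      · show r • a • (v + c • x) = 0
        rw [smul_comm, (hmem r).1 h, smul_zero]
      · have h' : r • a • (v + c • x) = 0 := congrArg Subtype.val h
        rw [smul_smul, ← hmem] at h'
        exact ((inferInstance : p.IsPrime).mem_or_mem h').resolve_right hap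

theorem tf_of_subset {p : Ideal R} (h : associatedPrimes R N ⊆ {p}) : TF p N := fun r n hr hn => by
  by_contra hn0
  obtain ⟨q, hq, hrq⟩ := Set.mem_iUnion₂.1 ((biUnion_associatedPrimes_eq_zero_divisors R N).ge
    (show r ∈ {r : R | ∃ x : N, x ≠ 0 ∧ r • x = 0} from ⟨n, hn0, hn⟩))
  exact hr (h hq ▸ hrq)

theorem exists_pow_kill {p : Ideal R} [Module.Finite R N] (h : associatedPrimes R N ⊆ {p}) :
    ∃ m : ℕ, ∀ r ∈ p ^ m, ∀ n : N, r • n = 0 := by
  have hle : p ≤ (Module.annihilator R N).radical := by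
    rw [← Ideal.sInf_minimalPrimes]
    exact le_sInf fun q hq => (h (Module.associatedPrimes.minimalPrimes_annihilator_subset_associatedPrimes R N hq)).ge
  obtain ⟨m, hm⟩ := Ideal.exists_pow_le_of_le_radical_of_fg hle (IsNoetherian.noetherian p)
  exact ⟨m, fun r hr n => Module.mem_annihilator.1 (hm hr) n⟩

omit [IsNoetherianRing R] [Module.Finite R M] in
/-- Extending along `ρ` to a localisation at `p`, when `ρ` is an isomorphism at `p`. -/
theorem exists_extend {G : Type u} [AddCommGroup G] [Module R G] (p : Ideal R) [p.IsPrime] (ρ : M →ₗ[R] G)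
    (hsur : ∀ g : G, ∃ r ∉ p, r • g ∈ LinearMap.range ρ)
    (hinj : ∀ m : M, ρ m = 0 → ∃ r ∉ p, r • m = 0)
    (f : N →ₗ[R] L) [IsLocalizedModule p.primeCompl f] (q : M →ₗ[R] N) :
    ∃ φ : G →ₗ[R] L, ∀ m, φ (ρ m) = f (q m) := by
  let S := p.primeCompl
  let ρS : LocalizedModule S M →ₗ[R] LocalizedModule S G :=
    IsLocalizedModule.map S (LocalizedModule.mkLinearMap S M) (LocalizedModule.mkLinearMap S G) ρ
  have hb : Function.Bijective ρS := by
    constructor
    · rw [← LinearMap.ker_eq_bot, LinearMap.ker_eq_bot']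
      intro v hv
      obtain ⟨⟨m, s⟩, rfl⟩ := IsLocalizedModule.mk'_surjective S (LocalizedModule.mkLinearMap S M) v
      simp only [Function.uncurry_apply_pair, ρS, IsLocalizedModule.map_mk', IsLocalizedModule.mk'_eq_zero'] at hv
      obtain ⟨t, ht⟩ := hv
      obtain ⟨r, hr, hr0⟩ := hinj ((t : R) • m) (by rw [map_smul]; exact ht)
      simp only [Function.uncurry_apply_pair, IsLocalizedModule.mk'_eq_zero']
      exact ⟨⟨r, hr⟩ * t, by
        show ((r : R) * (t : R)) • m = 0
        rw [mul_smul, hr0]⟩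
    · intro v
      obtain ⟨⟨g, s⟩, rfl⟩ := IsLocalizedModule.mk'_surjective S (LocalizedModule.mkLinearMap S G) v
      obtain ⟨r, hr, m, hm⟩ := hsur g
      refine ⟨IsLocalizedModule.mk' (LocalizedModule.mkLinearMap S M) m (⟨r, hr⟩ * s), ?_⟩
      simp only [Function.uncurry_apply_pair, ρS, IsLocalizedModule.map_mk', hm]
      exact IsLocalizedModule.mk'_cancel_left (f := LocalizedModule.mkLinearMap S G) g ⟨r, hr⟩ s
  let e := LinearEquiv.ofBijective ρS hb
  refine ⟨IsLocalizedModule.map S (LocalizedModule.mkLinearMap S M) f q ∘ₗ e.symm.toLinearMap ∘ₗ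
    LocalizedModule.mkLinearMap S G, fun m => ?_⟩
  have : e.symm (LocalizedModule.mkLinearMap S G (ρ m)) = LocalizedModule.mkLinearMap S M m := by
    rw [LinearEquiv.symm_apply_eq]
    exact (IsLocalizedModule.map_apply S _ _ ρ m).symm
  show IsLocalizedModule.map S _ f q (e.symm _) = _
  rw [this, IsLocalizedModule.map_apply]

/-- The finiteness criterion. -/
theorem finite_of_closure (hW : ∀ y y' : PrimeSpectrum R, y ∈ W → y.asIdeal ≤ y'.asIdeal → y' ∈ W)
    {G : Type u} [AddCommGroup G] [Module R G] (ρ : M →ₗ[R] G)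
    (hsur : ∀ g : G, ∀ y ∉ W, ∃ r ∉ y.asIdeal, r • g ∈ LinearMap.range ρ)
    (hinj : ∀ m : M, ρ m = 0 → ∀ y ∉ W, ∃ r ∉ y.asIdeal, r • m = 0)
    (hsep : ∀ g : G, (∀ y ∉ W, ∃ r ∉ y.asIdeal, r • g = 0) → g = 0)
    (hbase : ∀ y : PrimeSpectrum R, y ∉ W → y.asIdeal ∈ associatedPrimes R M →
      ∀ (L : Type u) [AddCommGroup L] [Module R L] (f : (R ⧸ y.asIdeal) →ₗ[R] L)
        [IsLocalizedModule y.asIdeal.primeCompl f], (Clo W f).FG) :
    Module.Finite R G := by
  classical
  let A := {y : PrimeSpectrum R // y ∉ W ∧ y.asIdeal ∈ associatedPrimes R M}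
  haveI : Finite A := by
    haveI := (associatedPrimes.finite R M).to_subtype
    exact Finite.of_injective (fun a : A => (⟨a.1.asIdeal, a.2.2⟩ : associatedPrimes R M))
      fun a b h => Subtype.ext (PrimeSpectrum.ext (congrArg Subtype.val h))
  choose Q hQ hQass using fun a : A => exists_coprimary (M := M) a.1.asIdeal
  let fp : ∀ a : A, (M ⧸ Q a) →ₗ[R] LocalizedModule a.1.asIdeal.primeCompl (M ⧸ Q a) := fun a =>
    LocalizedModule.mkLinearMap _ _
  have hloc : ∀ a : A, ∃ φ : G →ₗ[R] LocalizedModule a.1.asIdeal.primeCompl (M ⧸ Q a),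
      ∀ m, φ (ρ m) = fp a ((Q a).mkQ m) := fun a =>
    exists_extend a.1.asIdeal ρ (fun g => hsur g a.1 a.2.1) (fun m hm => hinj m hm a.1 a.2.1) (fp a) (Q a).mkQ
  choose φ hφ using hloc
  have htf : ∀ a : A, TF a.1.asIdeal (M ⧸ Q a) := fun a => tf_of_subset (hQass a)
  have hfg : ∀ a : A, (Clo W (fp a)).FG := fun a => by
    obtain ⟨m, hm⟩ := exists_pow_kill (hQass a)
    exact clo_fg_of_tf (hbase a.1 a.2.1 a.2.2) m _ (htf a) hm _ (fp a)
  have hmem : ∀ (a : A) g, φ a g ∈ Clo W (fp a) := fun a g y hy => by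
    obtain ⟨r, hr, m, hm⟩ := hsur g y hy
    exact ⟨r, hr, (Q a).mkQ m, by rw [← hφ, hm, map_smul]⟩
  let Φ : G →ₗ[R] ∀ a : A, Clo W (fp a) := LinearMap.pi fun a => (φ a).codRestrict _ (hmem a)
  have hΦ : Function.Injective Φ := by
    rw [← LinearMap.ker_eq_bot, LinearMap.ker_eq_bot']
    intro g hg
    refine hsep g fun y hy => ?_
    obtain ⟨r, hr, m, hm⟩ := hsur g y hy
    let K : Submodule R M := ⨅ a : A, Q a
    have hmK : m ∈ K := (Submodule.mem_iInf _).2 fun a => (Submodule.Quotient.mk_eq_zero (Q a)).1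
      (injective_of_tf (htf a) (fp a) (((hφ a m).symm.trans (by
        rw [hm, map_smul]
        have : φ a g = 0 := congrArg Subtype.val (congrFun hg a)
        rw [this, smul_zero])).trans (map_zero _).symm))
    obtain ⟨t, ht, htm⟩ : ∃ t ∉ y.asIdeal, t • m = 0 := by
      by_contra hc
      push Not at hc
      have hsupp : y ∈ Module.support R K := Module.mem_support_iff_exists_annihilator.2 ⟨⟨m, hmK⟩, fun t ht => by
        by_contra hty
        exact hc t hty (congrArg Subtype.val ((Submodule.mem_annihilator_span_singleton _ _).1 ht))⟩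
      rw [Module.support_eq_zeroLocus, PrimeSpectrum.mem_zeroLocus] at hsupp
      obtain ⟨q, hq, hqy⟩ := Ideal.exists_minimalPrimes_le (show Module.annihilator R K ≤ y.asIdeal from hsupp)
      have hqK := Module.associatedPrimes.minimalPrimes_annihilator_subset_associatedPrimes R K hq
      have hqM : q ∈ associatedPrimes R M :=
        associatedPrimes.subset_of_injective (f := K.subtype) Subtype.val_injective hqK
      haveI := hq.isPrime
      let a : A := ⟨⟨q, hq.isPrime⟩, fun h => hy (hW _ y h hqy), hqM⟩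
      exact hQ a (associatedPrimes.subset_of_injective (f := Submodule.inclusion (iInf_le Q a))
        (Submodule.inclusion_injective _) hqK)
    refine ⟨t * r, fun h => (y.isPrime.mem_or_mem h).elim ht hr, ?_⟩
    rw [mul_smul, ← hm, ← map_smul, htm, map_zero]
  haveI : ∀ a, Module.Finite R (Clo W (fp a)) := fun a => Module.Finite.iff_fg.2 (hfg a)
  exact Module.Finite.of_injective Φ hΦ

end Groth.Agent.ZClosLib.Bound
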